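import Groth.Agent.LocFree.Rank
import Groth.Agent.KFlat.Pullback
import Groth.Agent.KFlat.SchemeStalk
import Groth.Agent.QC.Coherent
import Mathlib

/-!
# Morphisms vanishing on all thickenings of a closed subscheme
-/

set_option autoImplicit false
set_option backward.isDefEq.respectTransparency false

universe u

open CategoryTheory CategoryTheory.Limits AlgebraicGeometry TopologicalSpace Opposite Groth.Agent.QC
open TensorProduct Groth.Agent.WeakAssLib

namespace Groth.Agent.KrullThick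

theorem mem_ker_smul_of_tmul_eq_zero {A B G : Type u} [CommRing A] [CommRing B] [Algebra A B]
    [AddCommGroup G] [Module A G] (hφ : Function.Surjective (algebraMap A B)) {g : G}
    (h : (1 : B) ⊗ₜ[A] g = 0) : g ∈ RingHom.ker (algebraMap A B) • (⊤ : Submodule A G) := by
  let e : (A ⧸ RingHom.ker (Algebra.ofId A B)) ≃ₐ[A] B :=
    Ideal.quotientKerAlgEquivOfSurjective (f := Algebra.ofId A B) hφ
  have h' := congrArg (TensorProduct.congr e.symm.toLinearEquiv (LinearEquiv.refl A G)) h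
  rw [TensorProduct.congr_tmul, map_zero] at h'
  have h'' := congrArg (TensorProduct.quotTensorEquivQuotSMul G (RingHom.ker (Algebra.ofId A B))) h'
  rw [map_zero, show e.symm.toLinearEquiv 1 = Ideal.Quotient.mk _ (1 : A) from
    (map_one e.symm).trans (map_one _).symm] at h''
  erw [TensorProduct.quotTensorEquivQuotSMul_mk_tmul, one_smul] at h''
  exact (Submodule.Quotient.mk_eq_zero _).1 h''

variable {X : Scheme.{u}}

/-- The kernel of the stalk map of a closed subscheme. -/
theorem ker_stalkMap_le (I : X.IdealSheafData) (z : I.subscheme) {U : X.affineOpens}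
    (hz : I.subschemeι z ∈ (U : X.Opens)) :
    RingHom.ker (I.subschemeι.stalkMap z).hom ≤
      (I.ideal U).map (X.presheaf.germ U.1 (I.subschemeι z) hz).hom := by
  intro a ha
  have hW : IsAffineOpen (I.subschemeι ⁻¹ᵁ U.1) := U.2.preimage I.subschemeι
  letI := (X.presheaf.germ U.1 (I.subschemeι z) hz).hom.toAlgebra
  haveI := U.2.isLocalization_stalk ⟨I.subschemeι z, hz⟩
  letI := (I.subscheme.presheaf.germ (I.subschemeι ⁻¹ᵁ U.1) z hz).hom.toAlgebra
  haveI := hW.isLocalization_stalk ⟨z, hz⟩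
  obtain ⟨s, c, rfl⟩ := IsLocalization.exists_mk'_eq
    (U.2.primeIdealOf ⟨I.subschemeι z, hz⟩).asIdeal.primeCompl a
  rw [IsLocalization.mk'_mem_iff]
  have h0 : (I.subscheme.presheaf.germ (I.subschemeι ⁻¹ᵁ U.1) z hz).hom
      ((I.subschemeι.app U.1).hom s) = 0 := by
    refine Eq.trans ?_ (show (I.subschemeι.stalkMap z).hom
      ((X.presheaf.germ U.1 (I.subschemeι z) hz).hom s) = 0 from ?_)
    · exact (Scheme.Hom.germ_stalkMap_apply I.subschemeι U.1 z hz s).symm
    · change (I.subschemeι.stalkMap z).hom (algebraMap Γ(X, U.1) _ s) = 0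
      rw [← IsLocalization.mk'_spec _ s c, map_mul, RingHom.mem_ker.1 ha, zero_mul]
  obtain ⟨⟨b, hb⟩, hbs⟩ := (IsLocalization.map_eq_zero_iff
    (hW.primeIdealOf ⟨z, hz⟩).asIdeal.primeCompl _ _).1 h0
  obtain ⟨b', rfl⟩ := I.subschemeι_app_surjective U b
  have hb' : b' ∉ (U.2.primeIdealOf ⟨I.subschemeι z, hz⟩).asIdeal := by
    intro hmem
    have hp := congrArg PrimeSpectrum.asIdeal
      (IsAffineOpen.comap_primeIdealOf_appLE (f := I.subschemeι) U.1 U.2 _ hW le_rfl (x := z) hz)
    rw [← hp] at hmem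
    apply hb
    rwa [Scheme.Hom.app_eq_appLE]
  have hmem : b' * s ∈ I.ideal U := by
    rw [← I.ker_subschemeι_app U, RingHom.mem_ker, map_mul]
    exact hbs
  have hu : IsUnit (algebraMap Γ(X, U.1) (X.presheaf.stalk (I.subschemeι z)) b') :=
    IsLocalization.map_units (M := (U.2.primeIdealOf ⟨I.subschemeι z, hz⟩).asIdeal.primeCompl) _
      ⟨b', hb'⟩
  have := Ideal.mem_map_of_mem (X.presheaf.germ U.1 (I.subschemeι z) hz).hom hmem
  rw [map_mul] at this
  exact (Ideal.unit_mul_mem_iff_mem _ hu).1 this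

variable [IsLocallyNoetherian X] {F G : X.Modules} (u : F ⟶ G) (J : X.IdealSheafData)

/-- At a point of the subscheme, the map on stalks vanishes. -/
theorem stalk_eq_zero (hG : Coh.IsCoh G)
    (h : ∀ n : ℕ, (Scheme.Modules.pullback (J ^ (n + 1)).subschemeι).map u = 0) {x : X}
    (hx : x ∈ J.support) : (DerSch.stalkFunctor X x).map u = 0 := by
  obtain ⟨U, hU, hxU, -⟩ :=
    exists_isAffineOpen_mem_and_subset (X := X) (U := ⊤) (trivial : x ∈ (⊤ : X.Opens))
  haveI : G.IsQuasicoherent := hG.1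
  haveI := finite_sections hU (M := G) hG.2
  haveI : Module.Finite (X.presheaf.stalk x) ((DerSch.stalkFunctor X x).obj G) :=
    Groth.Agent.LocFree.finite_stalk hU hG.1 hxU
  have hJm : (J.ideal ⟨U, hU⟩).map (X.presheaf.germ U x hxU).hom ≤
      IsLocalRing.maximalIdeal (X.presheaf.stalk x) := by
    rw [Ideal.map_le_iff_le_comap]
    intro a ha
    rw [Ideal.mem_comap, IsLocalRing.mem_maximalIdeal]
    intro hu
    have hz := (Scheme.IdealSheafData.mem_support_iff_of_mem (U := ⟨U, hU⟩) hxU).1 hx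
    exact (Scheme.mem_zeroLocus_iff X _ x).1 hz a ha ((X.mem_basicOpen a x hxU).2 hu)
  refine ModuleCat.hom_ext (LinearMap.ext fun m => ?_)
  change ((DerSch.stalkFunctor X x).map u).hom m = 0
  have key : ∀ n : ℕ, ((DerSch.stalkFunctor X x).map u).hom m ∈ IsLocalRing.maximalIdeal (X.presheaf.stalk x) ^ (n + 1) •
      (⊤ : Submodule (X.presheaf.stalk x) ((DerSch.stalkFunctor X x).obj G)) := by
    intro n
    have hxn : x ∈ ((J ^ (n + 1)).support : Set X) := by
      rw [Scheme.IdealSheafData.support_pow_succ]; exact hx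
    rw [← Scheme.IdealSheafData.range_subschemeι] at hxn
    obtain ⟨z, rfl⟩ := hxn
    let ι := (J ^ (n + 1)).subschemeι
    let A := X.presheaf.stalk (ι z)
    have h0 : (ModuleCat.extendScalars.{u, u, u} (ι.stalkMap z).hom).map
        ((DerSch.stalkFunctor X (ι z)).map u) = 0 := by
      have := (Groth.Agent.KFlat.pullStalkIso ι z).hom.naturality u
      rw [Functor.comp_map, h n, Functor.map_zero, zero_comp] at this
      rw [← cancel_epi ((Groth.Agent.KFlat.pullStalkIso ι z).hom.app F), comp_zero]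
      exact this.symm
    letI : Algebra (X.presheaf.stalk (ι z)) ((J ^ (n + 1)).subscheme.presheaf.stalk z) :=
      (ι.stalkMap z).hom.toAlgebra
    have h1 : (1 : (J ^ (n + 1)).subscheme.presheaf.stalk z) ⊗ₜ[X.presheaf.stalk (ι z)]
        (((DerSch.stalkFunctor X (ι z)).map u).hom m) = 0 := by
      have := congrArg (fun φ => φ.hom ((1 : (J ^ (n + 1)).subscheme.presheaf.stalk z) ⊗ₜ[X.presheaf.stalk (ι z)] m)) h0
      simp only [ModuleCat.hom_zero, LinearMap.zero_apply] at this
      erw [ModuleCat.ExtendScalars.map_tmul] at this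
      exact this
    have hsurj : Function.Surjective (algebraMap (X.presheaf.stalk (ι z))
        ((J ^ (n + 1)).subscheme.presheaf.stalk z)) := ι.stalkMap_surjective z
    refine Submodule.smul_mono_left ?_ (mem_ker_smul_of_tmul_eq_zero hsurj h1)
    refine (ker_stalkMap_le (J ^ (n + 1)) z (U := ⟨U, hU⟩) hxU).trans ?_
    rw [Scheme.IdealSheafData.ideal_pow, Pi.pow_apply, Ideal.map_pow]
    exact Ideal.pow_right_mono hJm _
  have hbot := Ideal.iInf_pow_smul_eq_bot_of_isLocalRing
    (IsLocalRing.maximalIdeal (X.presheaf.stalk x)) (M := (DerSch.stalkFunctor X x).obj G)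
    (IsLocalRing.maximalIdeal.isMaximal _).ne_top
  have hg : ((DerSch.stalkFunctor X x).map u).hom m ∈ (⊥ : Submodule (X.presheaf.stalk x) ((DerSch.stalkFunctor X x).obj G)) := by
    rw [← hbot, Submodule.mem_iInf]
    intro n
    cases n with
    | zero => simp
    | succ k => exact key k
  exact hg

omit [IsLocallyNoetherian X] in
/-- For finite type source, vanishing on a stalk spreads out. -/
theorem exists_nhd (hF : Coh.IsCoh F) (hG : Coh.IsQCoh G) {x : X}
    (hx : (DerSch.stalkFunctor X x).map u = 0) :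
    ∃ V : X.Opens, x ∈ V ∧ ∀ y ∈ V, (DerSch.stalkFunctor X y).map u = 0 := by
  classical
  obtain ⟨U, hU, hxU, -⟩ :=
    exists_isAffineOpen_mem_and_subset (X := X) (U := ⊤) (trivial : x ∈ (⊤ : X.Opens))
  haveI : F.IsQuasicoherent := hF.1
  haveI := finite_sections hU (M := F) hF.2
  obtain ⟨k, s, hs⟩ := Module.Finite.exists_fin (R := Γ(X, U)) (M := Γ(F, U))
  have hgerm : ∀ (y : X) (hy : y ∈ U) (t : Γ(F, U)), ((DerSch.stalkFunctor X y).map u).hom
      (mgerm F hy t) = mgerm G hy (u.app U t) := fun y hy t => by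
    exact DerSch.stalkFunctor_map_germ y u U hy t
  have h0 : ∀ j, ∃ r : Γ(X, U), r ∉ (hU.primeIdealOf ⟨x, hxU⟩).asIdeal ∧ r • u.app U (s j) = 0 := by
    intro j
    refine (germ_eq_zero_iff hU (isLoc_of_isQCoh hU (hM := hG)) hxU _).1 ?_
    rw [← hgerm, hx]
    rfl
  choose r hr1 hr2 using h0
  refine ⟨X.basicOpen (∏ j, r j), (mem_primeIdealOf hU hxU _).2 fun h => ?_, fun y hy => ?_⟩
  · obtain ⟨j, -, hj⟩ := (hU.primeIdealOf ⟨x, hxU⟩).isPrime.prod_mem_iff.1 h
    exact hr1 j hj
  · have hyU : y ∈ U := X.basicOpen_le _ hy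
    have hj : ∀ j, ((DerSch.stalkFunctor X y).map u).hom (mgerm F hyU (s j)) = 0 := fun j => by
      rw [hgerm]
      refine (germ_eq_zero_iff hU (isLoc_of_isQCoh hU (hM := hG)) hyU _).2 ⟨r j, fun h => ?_, hr2 j⟩
      refine (mem_primeIdealOf hU hyU _).1 hy ?_
      obtain ⟨q, hq⟩ := Finset.dvd_prod_of_mem r (Finset.mem_univ j)
      rw [hq]
      exact Ideal.mul_mem_right _ _ h
    refine ModuleCat.hom_ext (LinearMap.ext fun t => ?_)
    have ht : t ∈ Submodule.span (X.presheaf.stalk y) (Set.range fun j => mgerm F hyU (s j)) :=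
      Groth.Agent.LocFree.span_germ hU hF.1 hyU s hs ▸ trivial
    have hle : Submodule.span (X.presheaf.stalk y) (Set.range fun j => mgerm F hyU (s j)) ≤
        LinearMap.ker ((DerSch.stalkFunctor X y).map u).hom :=
      Submodule.span_le.2 (by rintro _ ⟨j, rfl⟩; exact hj j)
    exact hle ht

theorem exists_open_restrict_eq_zero (hF : Coh.IsCoh F) (hG : Coh.IsCoh G)
    (h : ∀ n : ℕ, (Scheme.Modules.pullback (J ^ (n + 1)).subschemeι).map u = 0) :
    ∃ U : X.Opens, (J.support : Set X) ⊆ U ∧ (Scheme.Modules.restrictFunctor U.ι).map u = 0 := by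
  choose V hxV hV using fun x : (J.support : Set X) =>
    exists_nhd u hF hG.1 (stalk_eq_zero u J hG h x.2)
  refine ⟨⨆ x, V x, fun x hx => Opens.mem_iSup.2 ⟨⟨x, hx⟩, hxV ⟨x, hx⟩⟩, ?_⟩
  refine Scheme.Modules.hom_ext _ _ fun W => ?_
  ext t
  refine ext_germ G _ fun y hy => ?_
  obtain ⟨w, hwW, rfl⟩ := hy
  have hyW : w.1 ∈ (⨆ x, V x).ι ''ᵁ W := ⟨w, hwW, rfl⟩
  obtain ⟨x, hx⟩ := Opens.mem_iSup.1 w.2
  have h0 := hV x _ hx
  have e : ((DerSch.stalkFunctor X w.1).map u).hom
      (mgerm F hyW t) =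
      mgerm G hyW (u.app ((⨆ x, V x).ι ''ᵁ W) t) := by
    exact DerSch.stalkFunctor_map_germ w.1 u _ hyW t
  rw [h0] at e
  exact e.symm

end Groth.Agent.KrullThick
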